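import Cfsg.Agent.H608.Lb.Deg
import Cfsg.Agent.H634.OneP.Main

/-!
# S4879, tool T2, final form (helper608)

* `exp_of_oneC` : one class of `p`-elements: exponent `p`;
* `inv_of_triv` : the hypothesis of `exists_cols` for `p - 1 ≤ 2 e`;
* `exists_all` : `K`, the local data and the columns, for `|P| = p²`;
* `exists_qab` : the form for `p = 7`, `e = 3`.
-/

set_option autoImplicit false
set_option linter.unusedSectionVars false
set_option linter.unusedVariables false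

open Cfsg Cfsg.Agent.Characters.Core

namespace Cfsg.Agent.H608.Lb

open Cfsg.Agent.H741.Lb (OneC QMat)

universe u

variable {G : Type u} [Group G] [Finite G] {p : ℕ} [hp : Fact p.Prime] {M : Ideal AlgInt} {x : G}

/-- one class of nontrivial `p`-elements: they have order `p` -/
theorem exp_of_oneC (hC : OneC p G) (P : Sylow p G) : ∀ g ∈ (P : Subgroup G), g ^ p = 1 := by
  intro g hg
  by_cases h1 : g = 1
  · rw [h1, one_pow]
  obtain ⟨k, hk⟩ := IsPGroup.iff_orderOf.1 P.isPGroup' ⟨g, hg⟩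
  rw [Subgroup.orderOf_mk] at hk
  have hk0 : k ≠ 0 := by
    rintro rfl
    rw [pow_zero, orderOf_eq_one_iff] at hk
    exact h1 hk
  have hpG : p ∣ Nat.card G := (dvd_pow_self p hk0).trans (hk ▸ orderOf_dvd_natCard g)
  obtain ⟨z, hz⟩ := exists_prime_orderOf_dvd_card' p hpG
  have hz1 : z ≠ 1 := by
    rintro rfl
    rw [orderOf_one] at hz
    exact hp.out.one_lt.ne hz
  obtain ⟨c, hc⟩ := isConj_iff.1 (hC g z h1 hz1 ⟨k, hk⟩ ⟨1, by rw [hz, pow_one]⟩)
  have h2 : orderOf g = p := by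
    rw [← hz, ← hc]
    exact ((MulAut.conj c).orderOf_eq g).symm
  rw [← h2, pow_orderOf_eq_one]

/-- `x` is rational -/
theorem rat_of_oneC (hC : OneC p G) (hx : orderOf x = p) (k : ℕ) (hk : ¬ p ∣ k) : ∃ g : G, g * x * g⁻¹ = x ^ k := by
  have hx1 : x ≠ 1 := by
    rintro rfl
    rw [orderOf_one] at hx
    exact hp.out.one_lt.ne hx
  have h1 : x ^ k ≠ 1 := fun h => hk (by rw [← hx]; exact orderOf_dvd_of_pow_eq_one h)
  have h2 : orderOf (x ^ k) = p := by
    rw [(Nat.Coprime.orderOf_pow (by rw [hx]; exact (hp.out.coprime_iff_not_dvd).2 hk)), hx]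
  exact isConj_iff.1 (hC x (x ^ k) hx1 h1 ⟨1, by rw [hx, pow_one]⟩ ⟨1, by rw [h2, pow_one]⟩)

/-- **The hypothesis of `exists_cols`** -/
theorem inv_of_triv (hM : IsPModular p M) (hp2 : p ≠ 2) (P : Sylow p G) (hP : Nat.card P = p ^ 2)
    (hel : ∀ g ∈ (P : Subgroup G), g ^ p = 1) (hx : x ∈ (P : Subgroup G)) (hx1 : x ≠ 1)
    (h2 : p - 1 ≤ 2 * (Subgroup.centralizer ((P : Subgroup G) : Set G)).relIndex
      (Subgroup.normalizer ((P : Subgroup G) : Set G) ⊓ Subgroup.centralizer ({x} : Set G)))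
    {K : Subgroup G} [Fintype K] (S : Sit p x K) {e m : ℕ} {u : Fin e → IrrCharacter K} {s : Fin e → ℤ}
    {Φ : Fin e → K → ℂ} (L : Loc p M K e m u s Φ) (hr : ∀ k : ℕ, ¬ p ∣ k → ∃ g : G, g * x * g⁻¹ = x ^ k) :
    ∀ k : ℕ, ¬ p ∣ k → ∃ g : G, g * x * g⁻¹ = x ^ k ∧
      ∀ i (y y' : K), ¬ p ∣ orderOf y → g * y * g⁻¹ = (y' : G) → (u i : K → ℂ) y' = (u i : K → ℂ) y := by
  have hMp := Blocks.Local.isPrime_of_isPModular hM
  intro k hk
  obtain ⟨g, hg⟩ := hr k hk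
  refine ⟨g, hg, fun i y y' hy hyy => ?_⟩
  obtain ⟨π, hπι, hπ, hker⟩ := S.proj
  have hπs : Function.Surjective π := fun k => ⟨Subgroup.inclusion S.le k, hπι k⟩
  have hψ := H133.PB.mem_principalBlock_comp π hπs (L.mem i)
  have hn : g ∈ Subgroup.normalizer ((Subgroup.zpowers x : Subgroup G) : Set G) := by
    refine Subgroup.mem_normalizer_fintype fun v hv => ?_
    obtain ⟨j, rfl⟩ := Subgroup.mem_zpowers_iff.1 hv
    rw [← conj_zpow, hg]
    exact Subgroup.zpow_mem _ (Subgroup.pow_mem _ (Subgroup.mem_zpowers x) k) j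
  have hy' : ¬ p ∣ orderOf (Subgroup.inclusion S.le y) := by
    rwa [orderOf_injective (Subgroup.inclusion S.le) (Subgroup.inclusion_injective S.le) y]
  have h3 := H426.OneP.triv_of H634.OneP.normalTriv hM hp2 P hP hel hx hx1 h2 hψ hn (Subgroup.inclusion S.le y)
    (Subgroup.inclusion S.le y') hy' hyy.symm
  have h4 : ∀ k : K, ((u i : K → ℂ) ∘ π) (Subgroup.inclusion S.le k) = (u i : K → ℂ) k := fun k => by
    rw [Function.comp_apply, hπι]
  rw [← h4 y, ← h4 y']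
  exact h3

/-- **T2, the general form**: `|P| = p²`, one class of `p`-elements, `c = |N(P) ∩ C(x) : C(P)|`, `2 c ≥ p - 1`. -/
theorem exists_all (hM : IsPModular p M) (hp2 : p ≠ 2) (hC : OneC p G) (P : Sylow p G) (hP : Nat.card P = p ^ 2)
    (hx : x ∈ (P : Subgroup G)) (hx1 : x ≠ 1) (c m : ℕ) [NeZero c]
    (hc : (Subgroup.centralizer ((P : Subgroup G) : Set G)).relIndex
      (Subgroup.normalizer ((P : Subgroup G) : Set G) ⊓ Subgroup.centralizer ({x} : Set G)) = c)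
    (hcm : c * m = p - 1) (h2 : p - 1 ≤ 2 * c) :
    ∃ (K : Subgroup G) (_ : Fintype K) (u : Fin c → IrrCharacter K) (s : Fin c → ℤ) (Φ : Fin c → K → ℂ)
      (q : IrrCharacter G → Fin c → ℤ), Sit p x K ∧ Loc p M K c m u s Φ ∧ Cols p M x K c m u s Φ q ∧
        (u 0 : K → ℂ) = 1 ∧ s 0 = 1 := by
  classical
  have hel := exp_of_oneC hC P
  obtain ⟨K, S, hK⟩ := exists_sit P hP hel hx hx1
  let _ : Fintype K := Fintype.ofFinite K
  obtain ⟨e, m', u, s, Φ, L⟩ := exists_loc' hM hp2 K hK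
  have he : e = c := by
    rw [← rank_cent hM S L, H963.OneP.RankEq.rank_eq hM hp2 P hP hel hx hx1, hc]
  subst he
  have hm : m' = m := by
    have h3 := L.em.trans hcm.symm
    exact Nat.eq_of_mul_eq_mul_left (Nat.pos_of_ne_zero (NeZero.ne e)) h3
  subst hm
  obtain ⟨i0, h3, h4⟩ := L.one
  have L' := L.reindex (Equiv.swap 0 i0)
  obtain ⟨q, C⟩ := exists_cols hM S L' (inv_of_triv hM hp2 P hP hel hx hx1 (by rw [hc]; exact h2) S L'
    (rat_of_oneC hC S.ord))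
  refine ⟨K, inferInstance, _, _, _, q, S, L', C, ?_, ?_⟩
  · show (u (Equiv.swap 0 i0 0) : K → ℂ) = 1
    rw [Equiv.swap_apply_left]
    exact h3
  · show s (Equiv.swap 0 i0 0) = 1
    rw [Equiv.swap_apply_left]
    exact h4

/-- **The form for `p = 7`, `c = 3`.** -/
theorem exists_qab [Fact (Nat.Prime 7)] (hM : IsPModular 7 M) (hC : OneC 7 G) (P : Sylow 7 G) (hP : Nat.card P = 7 ^ 2)
    (hx : x ∈ (P : Subgroup G)) (hx1 : x ≠ 1)
    (hc : (Subgroup.centralizer ((P : Subgroup G) : Set G)).relIndex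
      (Subgroup.normalizer ((P : Subgroup G) : Set G) ⊓ Subgroup.centralizer ({x} : Set G)) = 3) :
    ∃ (f : Fin 3 → Subgroup.centralizer ({x} : Set G) → ℂ) (q : IrrCharacter G → Fin 3 → ℤ) (a b : ℤ),
      QMat 7 3 2 M x f q ∧ (∀ χ : IrrCharacter G, (χ : G → ℂ) = 1 → q χ = ![1, 0, 0]) ∧ a % 7 = 1 ∧ b % 7 = 1 ∧
      ∀ χ ∈ principalBlock M G, (χ : G → ℂ) x = ((q χ 0 + a * q χ 1 + b * q χ 2 : ℤ) : ℂ) := by
  obtain ⟨K, _, u, s, Φ, q, S, L, C, h1, h2⟩ := exists_all hM (by norm_num) hC P hP hx hx1 3 2 hc (by norm_num)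
    (by norm_num)
  obtain ⟨π, hπι, -, -⟩ := S.proj
  have hmod : ∀ i, (s i * (charDegree (u i : K → ℂ) : ℤ)) % 7 = 1 := by
    intro i
    have h3 := L.deg_cong hM i
    have h4 : s i * (charDegree (u i : K → ℂ) : ℤ) - 1 = s i * (charDegree (u i : K → ℂ) - s i) := by
      rcases L.sgn i with h | h <;> rw [h] <;> ring
    have h5 : (7 : ℤ) ∣ s i * (charDegree (u i : K → ℂ) : ℤ) - 1 := by
      rw [h4]
      exact h3.mul_left _
    omega
  refine ⟨_, q, s 1 * charDegree (u 1 : K → ℂ), s 2 * charDegree (u 2 : K → ℂ), C.qmat hM S L π hπι, ?_, hmod 1, hmod 2, ?_⟩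
  · intro χ hχ
    funext i
    rw [C.one 0 h1 χ hχ i]
    fin_cases i
    · simp [h2]
    · simp
    · simp
  · intro χ hχ
    rw [C.val_one hχ, Fin.sum_univ_three]
    have h3 : (charDegree (u 0 : K → ℂ) : ℤ) = 1 := by
      rw [h1]
      show ((⌊((1 : K → ℂ) 1).re⌋₊ : ℕ) : ℤ) = 1
      simp
    rw [h2, h3]
    congr 1
    ring

end Cfsg.Agent.H608.Lb
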